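import Groth.Agent.DCX42.Perfect
import Groth.Agent.FBase64.RestrictStalk
import Groth.Agent.DCK91.Flat
import Groth.Agent.DCK91.StalkFun

/-!
Flatness and vanishing are local for open immersions.
-/

set_option autoImplicit false
set_option linter.style.haveILetI false

noncomputable section

universe u

open CategoryTheory Limits AlgebraicGeometry
attribute [local instance] HasDerivedCategory.standard

namespace Groth.Agent.PerfAmp41

/-- Flatness along a semilinear equivalence. -/
theorem flat_of_semilinear {A B : Type u} [CommRing A] [CommRing B] (σ : A ≃+* B) {M N : Type u}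
    [AddCommGroup M] [Module A M] [AddCommGroup N] [Module B N] (e : M ≃+ N)
    (he : ∀ a m, e (a • m) = σ a • e m) (h : Module.Flat A M) : Module.Flat B N := by
  letI : Algebra B A := σ.symm.toRingHom.toAlgebra
  letI : Module B M := Module.compHom M σ.symm.toRingHom
  haveI : IsScalarTower B A M := IsScalarTower.of_algebraMap_smul fun _ _ => rfl
  haveI : Module.Flat B A := (RingHom.Flat.of_bijective (f := σ.symm.toRingHom) σ.symm.bijective)
  haveI := h
  haveI : Module.Flat B M := Module.Flat.trans B A M
  let l : M ≃ₗ[B] N :=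
    { e with
      map_smul' := fun b m => by
        change e (σ.symm b • m) = b • e m
        rw [he, RingEquiv.apply_symm_apply] }
  exact Module.Flat.of_linearEquiv l.symm

variable {U X : Scheme.{u}} (j : U ⟶ X) [IsOpenImmersion j]

/-- Flatness at a point of an open subscheme. -/
theorem isFlatAt_restrict_iff (M : X.Modules) (u : U) :
    FlatMod.IsFlatAt ((Scheme.Modules.restrictFunctor j).obj M) u ↔ FlatMod.IsFlatAt M (j u) := by
  let σ := (asIso (j.stalkMap u)).commRingCatIsoToRingEquiv
  let e := FBase64.AssSheaf.restrictStalkEquiv j M u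
  have he : ∀ a m, e (a • m) = σ a • e m := FBase64.AssSheaf.restrictStalkEquiv_smul j M u
  refine ⟨fun h => flat_of_semilinear σ.symm e.symm (fun b n => e.injective ?_) h,
    fun h => flat_of_semilinear σ e he h⟩
  refine (e.apply_symm_apply _).trans ?_
  rw [he, RingEquiv.apply_symm_apply]
  exact congrArg (b • ·) (e.apply_symm_apply n).symm

/-- Flat modules restrict to flat modules. -/
theorem isFlat_restrict {M : X.Modules} (h : FlatMod.IsFlat M) :
    FlatMod.IsFlat ((Scheme.Modules.restrictFunctor j).obj M) :=
  fun u => (isFlatAt_restrict_iff j M u).2 (h (j u))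

theorem isFlatAt_of_iso {M N : X.Modules} (e : M ≅ N) (x : X) (h : FlatMod.IsFlatAt M x) :
    FlatMod.IsFlatAt N x := by
  haveI h' : Module.Flat (X.presheaf.stalk x) ((DCK91.SP x).obj M) := h
  exact @Module.Flat.of_linearEquiv _ _ _ _ _ _ _ _ h' ((DCK91.SP x).mapIso e.symm).toLinearEquiv

theorem isFlat_of_iso {M N : X.Modules} (e : M ≅ N) (h : FlatMod.IsFlat M) : FlatMod.IsFlat N :=
  fun x => isFlatAt_of_iso e x (h x)

theorem subsingleton_stalk_of_isZero_restrict (M : X.Modules) (u : U)
    (h : IsZero ((Scheme.Modules.restrictFunctor j).obj M)) : Subsingleton (M.presheaf.stalk (j u)) := by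
  have hs : Subsingleton ((M.restrict j).presheaf.stalk u) :=
    ModuleCat.subsingleton_of_isZero ((DCK91.SP u).map_isZero h)
  exact @Equiv.subsingleton _ _ (FBase64.AssSheaf.restrictStalkEquiv j M u).toEquiv hs

/-- A module which vanishes near every point is zero. -/
theorem isZero_of_locally {M : X.Modules}
    (h : ∀ x : X, ∃ V : X.Opens, x ∈ V ∧ IsZero ((Scheme.Modules.restrictFunctor V.ι).obj M)) : IsZero M :=
  DCK91.isZero_of_stalks fun x => by
    obtain ⟨V, hx, hV⟩ := h x
    haveI := subsingleton_stalk_of_isZero_restrict V.ι M ⟨x, hx⟩ hV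
    exact @ModuleCat.isZero_of_subsingleton _ _ _ (inferInstanceAs (Subsingleton (M.presheaf.stalk (V.ι ⟨x, hx⟩))))

end Groth.Agent.PerfAmp41
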