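import Groth.Agent.PerfAmp41.FlatCycles
import Groth.Agent.PerfAmp41.Restrict
import Groth.Agent.DCX42.PerfectRetract
import Groth.Agent.DCX42.LpullLoc
import Groth.Agent.Props58.LocFree.Affine
import Groth.Agent.LimTop61.FPDescend
import Groth.Prelude.Def_KSix

/-!
Perfect amplitude against pseudo-coherence and flat amplitude.
-/

set_option autoImplicit false
set_option linter.style.haveILetI false

noncomputable section

universe u

open CategoryTheory Limits AlgebraicGeometry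
open Groth.Agent.DCX42
attribute [local instance] HasDerivedCategory.standard

namespace Groth.Agent.PerfAmp41

variable {X : Scheme.{u}}

/-- An isomorphism with a complex of finite locally free modules in degrees `[m, n]`. -/
def HasAmpRep (m n : ℤ) (K : DCoh.D X) : Prop :=
  ∃ E : CochainComplex X.Modules ℤ, DCoh.VanishesOutside E m n ∧ (∀ i, FlatMod.IsFinLocFree (E.X i)) ∧
    Nonempty (K ≅ DerivedCategory.Q.obj E)

lemma HasAmpRep.of_iso {m n : ℤ} {K L : DCoh.D X} (h : HasAmpRep m n K) (e : K ≅ L) : HasAmpRep m n L := by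
  obtain ⟨E, hv, hf, ⟨i⟩⟩ := h
  exact ⟨E, hv, hf, ⟨e.symm ≪≫ i⟩⟩

lemma HasAmpRep.restrict {m n : ℤ} {K : DCoh.D X} (h : HasAmpRep m n K) {U : Scheme.{u}} (j : U ⟶ X)
    [IsOpenImmersion j] : HasAmpRep m n ((resD j).obj K) := by
  obtain ⟨E, hv, hf, ⟨e⟩⟩ := h
  exact ⟨(resCx j).obj E, fun i hi => (Scheme.Modules.restrictFunctor j).map_isZero (hv i hi),
    fun i => DCX42.isFinLocFree_restrict (hf i) j, ⟨(resD j).mapIso e ≪≫ resQ j E⟩⟩

lemma isPerfAmp_iff (m n : ℤ) (K : DCoh.D X) :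
    KSix.HasPerfectAmplitudeIn m n K ↔ Loc (fun {_} L => HasAmpRep m n L) K := by
  refine forall_congr' fun x => exists_congr fun V => and_congr_right fun _ => ⟨fun h => ?_, fun h F ⟨e⟩ => ?_⟩
  · obtain ⟨E, hv, hf, ⟨i⟩⟩ := h (DerivedCategory.Q.objPreimage K) ⟨rep K⟩
    exact ⟨E, hv, hf, ⟨(resD V.ι).mapIso (rep K).symm ≪≫ resQ V.ι _ ≪≫ i⟩⟩
  · exact h.of_iso ((resD V.ι).mapIso e.symm ≪≫ resQ V.ι F)

/-- A property of the restriction along an open immersion holds near the points of its image. -/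
lemma exists_nhd_of_immersion {P : ∀ {S : Scheme.{u}}, DCoh.D S → Prop}
    (hiso : ∀ {S : Scheme.{u}} {A B : DCoh.D S}, P A → (A ≅ B) → P B)
    (hres : ∀ {S T : Scheme.{u}} {A : DCoh.D S} (j : T ⟶ S) [IsOpenImmersion j], P A → P ((resD j).obj A))
    {U : Scheme.{u}} (j : U ⟶ X) [IsOpenImmersion j] {K : DCoh.D X} (h : P ((resD j).obj K)) (x : X)
    (hx : x ∈ Set.range j.base) : ∃ T : X.Opens, x ∈ T ∧ P ((resD T.ι).obj K) := by
  obtain ⟨e, _, hfac⟩ := exists_opens_iso j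
  exact ⟨j.opensRange, hx, hiso (hres e h) ((resDComp e j).app K ≪≫ (resDCongr hfac).app K)⟩

/-- Perfect amplitude gives pseudo-coherence. -/
theorem isPC_of_perfAmp {m n : ℤ} {K : DCoh.D X} (h : KSix.HasPerfectAmplitudeIn m n K) (k : ℤ) :
    DCoh.IsPseudoCoherentD k K := by
  rw [isPC_iff]
  rw [isPerfAmp_iff] at h
  intro x
  obtain ⟨V, hx, E, hv, hf, ⟨e⟩⟩ := h x
  exact ⟨V, hx, E, e.inv, ⟨⟨m, n, hv⟩, hf⟩, PCMap.of_isIso k _⟩

/-- Cohomology of restrictions. -/
def homologyResIso {U : Scheme.{u}} (j : U ⟶ X) [IsOpenImmersion j] (F : CochainComplex X.Modules ℤ) (i : ℤ) :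
    ((resCx j).obj F).homology i ≅ (Scheme.Modules.restrictFunctor j).obj (F.homology i) :=
  Mod48.mapHomologyIsoCx (Scheme.Modules.restrictFunctor j) F i

/-- Cokernels of differentials of restrictions. -/
def cokerResIso {U : Scheme.{u}} (j : U ⟶ X) [IsOpenImmersion j] (F : CochainComplex X.Modules ℤ) (a b : ℤ) :
    (Scheme.Modules.restrictFunctor j).obj (cokernel (F.d a b)) ≅ cokernel (((resCx j).obj F).d a b) :=
  PreservesCokernel.iso (Scheme.Modules.restrictFunctor j) (F.d a b)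

/-- A representative on a smaller open by a chain map. -/
theorem exists_rep_map {E F : CochainComplex X.Modules ℤ} (hE : DCoh.IsStrictlyPerfect E)
    (α : DerivedCategory.Q.obj E ⟶ DerivedCategory.Q.obj F) (x : X) :
    ∃ (W : X.Opens) (β : (resCx W.ι).obj E ⟶ (resCx W.ι).obj F), x ∈ W ∧
      (IsIso α → QuasiIso β) ∧ (∀ k, PCMap k α → PCMap k (DerivedCategory.Q.map β)) := by
  obtain ⟨W, β, hx, hβ⟩ := exists_rep hE α x
  have e : DerivedCategory.Q.map β = (resQ W.ι E).inv ≫ (resD W.ι).map α ≫ (resQ W.ι F).hom := by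
    rw [hβ]
    simp [resQ]
  refine ⟨W, β, hx, fun h => ?_, fun k hk => ?_⟩
  · rw [← DerivedCategory.isIso_Q_map_iff_quasiIso, e]
    infer_instance
  · rw [e]
    exact (PCMap.of_isIso k _).comp ((hk.map _).comp (PCMap.of_isIso k _))

lemma isFinLocFree_flat {S : Scheme.{u}} {M : S.Modules} (h : FlatMod.IsFinLocFree M) :
    ModSite.IsFlat (O := S.sheaf) M :=
  DCK91.isFlat_of_flatMod M (DCX42.isFlat_of_isFinLocFree h)

/-- Flat modules on a scheme. -/
def flatX (X : Scheme.{u}) : ExactClass X.Modules where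
  P M := ModSite.IsFlat (O := X.sheaf) M
  of_iso e h := Mod48.isFlat_of_iso (O := X.sheaf) e h
  of_isZero h := Mod48.isFlat_of_isZero (O := X.sheaf) h
  X₁ S hS h2 h3 := Mod48.isFlat_X₁ (O := X.sheaf) S hS h2 h3
  X₂ S hS h1 h3 := Mod48.isFlat_X₂ (O := X.sheaf) S hS h1 h3

/-- The cokernel of a flat complex locally isomorphic to modules in degrees `≥ m` is flat. -/
theorem isFlat_coker_of_perfAmp {m n : ℤ} {P : CochainComplex X.Modules ℤ} (hPb : ∀ i, n < i → IsZero (P.X i))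
    (hP : ∀ i, FlatMod.IsFlat (P.X i)) (h : Loc (fun {_} L => HasAmpRep m n L) (DCoh.toD X P)) :
    FlatMod.IsFlat (cokernel (P.d (m - 1) m)) := by
  intro x
  obtain ⟨V, hx, E, hv, hf, ⟨e⟩⟩ := h x
  let α : DerivedCategory.Q.obj E ⟶ DerivedCategory.Q.obj ((resCx V.ι).obj P) := e.inv ≫ (resQ V.ι P).hom
  obtain ⟨W, β, hxW, hq, -⟩ := exists_rep_map (⟨⟨m, n, hv⟩, hf⟩ : DCoh.IsStrictlyPerfect E) α ⟨x, hx⟩
  haveI : QuasiIso β := hq (by dsimp only [α]; infer_instance)
  have hflat : ModSite.IsFlat (O := (W : Scheme.{u}).sheaf)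
      (cokernel (((resCx W.ι).obj ((resCx V.ι).obj P)).d (m - 1) m)) :=
    (flatX (W : Scheme.{u})).isFlat_coker_of_qis β m n
      (fun i => isFinLocFree_flat (DCX42.isFinLocFree_restrict (hf i) W.ι))
      (fun i => DCK91.isFlat_of_flatMod _ (isFlat_restrict W.ι (isFlat_restrict V.ι (hP i))))
      (fun i hi => (Scheme.Modules.restrictFunctor W.ι).map_isZero (hv i (Or.inr hi)))
      (fun i hi => (Scheme.Modules.restrictFunctor W.ι).map_isZero
        ((Scheme.Modules.restrictFunctor V.ι).map_isZero (hPb i hi)))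
      (fun i hi => (Scheme.Modules.restrictFunctor W.ι).map_isZero (hv i (Or.inl hi)))
  exact (isFlatAt_restrict_iff V.ι _ ⟨x, hx⟩).1 ((isFlatAt_restrict_iff W.ι _ ⟨⟨x, hx⟩, hxW⟩).1
    (isFlatAt_of_iso ((Scheme.Modules.restrictFunctor W.ι).mapIso (cokerResIso V.ι P (m - 1) m) ≪≫
      cokerResIso W.ι ((resCx V.ι).obj P) (m - 1) m).symm _ (DCK91.flatMod_of_isFlat _ hflat _)))

/-- Perfect amplitude gives flat amplitude. -/
theorem flatAmp_of_perfAmp {m n : ℤ} (hmn : m ≤ n) {K : DCoh.D X} (h : KSix.HasPerfectAmplitudeIn m n K) :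
    DCoh.HasFlatAmplitudeIn m n K := by
  rw [isPerfAmp_iff] at h
  let F := DerivedCategory.Q.objPreimage K
  let e : DCoh.toD X F ≅ K := rep K
  have hz : ∀ i, (i < m ∨ n < i) → IsZero (F.homology i) := fun i hi => isZero_of_locally fun x => by
    obtain ⟨V, hx, E, hv, -, ⟨e'⟩⟩ := h x
    refine ⟨V, hx, IsZero.of_iso ?_ ((homologyResIso V.ι F i).symm ≪≫
      ((DerivedCategory.homologyFunctorFactors _ i).app _).symm ≪≫
      (DerivedCategory.homologyFunctor _ i).mapIso ((resQ V.ι F).symm ≪≫ (resD V.ι).mapIso e ≪≫ e') ≪≫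
      (DerivedCategory.homologyFunctorFactors _ i).app E)⟩
    exact (E.exactAt_iff_isZero_homology i).1 (ShortComplex.exact_of_isZero_X₂ _ (hv i hi))
  haveI : F.IsLE n := (CochainComplex.isLE_iff _ _).2 fun i hi =>
    (HomologicalComplex.exactAt_iff_isZero_homology _ _).2 (hz i (Or.inr hi))
  obtain ⟨P, c, hPb, hPf, hc⟩ := DCK91.exists_flat_res_le (O := X.sheaf) F n ‹_›
  let P' : CochainComplex X.Modules ℤ := P
  let eP : DCoh.toD X P' ≅ DCoh.toD X F :=
    @asIso _ _ _ _ (DerivedCategory.Q.map (C := CochainComplex X.Modules ℤ) c)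
      ((DerivedCategory.isIso_Q_map_iff_quasiIso X.Modules c).2 hc)
  have hfl : ∀ i, FlatMod.IsFlat (P'.X i) := fun i => DCK91.flatMod_of_isFlat _ (hPf i)
  have hloc : Loc (fun {_} L => HasAmpRep m n L) (DCoh.toD X P') := fun x => by
    obtain ⟨V, hx, hV⟩ := h x
    exact ⟨V, hx, hV.of_iso ((resD V.ι).mapIso (eP ≪≫ e).symm)⟩
  have hco := isFlat_coker_of_perfAmp hPb hfl hloc
  haveI : P'.IsGE m := (CochainComplex.isGE_iff _ _).2 fun i hi =>
    (HomologicalComplex.exactAt_iff_isZero_homology _ _).2 ((hz i (Or.inl hi)).of_iso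
      (((DerivedCategory.homologyFunctorFactors _ i).app P').symm ≪≫
        (DerivedCategory.homologyFunctor _ i).mapIso eP ≪≫ (DerivedCategory.homologyFunctorFactors _ i).app F))
  refine ⟨P'.truncGE m, fun i hi => ?_, fun i => ?_,
    ⟨(asIso (DerivedCategory.Q.map (P'.πTruncGE m))).symm ≪≫ eP ≪≫ e⟩⟩
  · rcases hi with hi | hi
    · exact CochainComplex.isZero_of_isStrictlyGE (P'.truncGE m) m i hi
    · haveI : P'.IsStrictlyLE n := (CochainComplex.isStrictlyLE_iff _ _).2 hPb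
      exact CochainComplex.isZero_of_isStrictlyLE (P'.truncGE m) n i hi
  · rcases lt_trichotomy i m with hlt | heq | hgt
    · exact DCK91.flatMod_of_isFlat _ (Mod48.isFlat_of_isZero (O := X.sheaf)
        (CochainComplex.isZero_of_isStrictlyGE (P'.truncGE m) m i hlt))
    · subst heq
      exact isFlat_of_iso ((CochainComplex.truncGEXIsoOpcycles P' i ≪≫ (cokerOp P' (i - 1) i (by omega)).symm).symm) hco
    · exact isFlat_of_iso (CochainComplex.truncGEXIso P' m i hgt).symm (hfl i)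

/-- Near every point the top cycles of a strictly perfect complex are finite locally free. -/
theorem exists_cycles_free {E : CochainComplex X.Modules ℤ} (hE : DCoh.IsStrictlyPerfect E) (m : ℤ)
    (hex : ∀ i, m < i → E.ExactAt i) (x : X) :
    ∃ (U : Scheme.{u}) (j : U ⟶ X) (_ : IsOpenImmersion j), x ∈ Set.range j.base ∧
      FlatMod.IsFinLocFree (((resCx j).obj E).cycles m) := by
  obtain ⟨W₁, hx₁, hfree⟩ := exists_termFree hE x
  let E₁ := (resCx W₁.ι).obj E
  obtain ⟨T, hxT, ⟨H⟩⟩ := exists_null (σIncl E₁ (m + 1))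
    (isStrictlyPerfect_σGE (isStrictlyPerfect_restrict hE W₁.ι) _) (m + 1)
    (fun i hi => isZero_σX E₁ (m + 1) hi) (fun i hi => exactAt_resCx W₁.ι (hex i (by omega))) ⟨x, hx₁⟩
  let G := Scheme.Modules.restrictFunctor T.ι
  let E₂ := (resCx T.ι).obj E₁
  have : IsIso (((resCx T.ι).map (σIncl E₁ (m + 1))).f (m + 1)) := by
    have := isIso_σIncl_f E₁ (m + 1) (le_refl (m + 1))
    exact inferInstanceAs (IsIso (G.map _))
  have : IsIso (((resCx T.ι).map (σIncl E₁ (m + 1))).f (m + 1 + 1)) := by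
    have := isIso_σIncl_f E₁ (m + 1) (show m + 1 ≤ m + 1 + 1 by omega)
    exact inferInstanceAs (IsIso (G.map _))
  let ι₁ := asIso (((resCx T.ι).map (σIncl E₁ (m + 1))).f (m + 1))
  let ι₂ := asIso (((resCx T.ι).map (σIncl E₁ (m + 1))).f (m + 1 + 1))
  have hH := H.comm (m + 1)
  rw [HomologicalComplex.zero_f_apply, add_zero,
    dNext_eq _ (show (ComplexShape.up ℤ).Rel (m + 1) (m + 1 + 1) from rfl),
    prevD_eq _ (show (ComplexShape.up ℤ).Rel m (m + 1) from rfl)] at hH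
  let q : E₂.X m ⟶ E₂.X m := 𝟙 _ - E₂.d m (m + 1) ≫ ι₁.inv ≫ H.hom (m + 1) m
  have hd : ι₁.inv ≫ ((resCx T.ι).obj (σGE E₁ (m + 1))).d (m + 1) (m + 1 + 1) =
      E₂.d (m + 1) (m + 1 + 1) ≫ ι₂.inv := by
    rw [Iso.inv_comp_eq, ← Category.assoc, Iso.eq_comp_inv]
    exact (((resCx T.ι).map (σIncl E₁ (m + 1))).comm (m + 1) (m + 1 + 1)).symm
  have hq : q ≫ E₂.d m (m + 1) = 0 := by
    simp only [q, Preadditive.sub_comp, Category.id_comp, Category.assoc]
    have e : H.hom (m + 1) m ≫ E₂.d m (m + 1) = ι₁.hom -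
        ((resCx T.ι).obj (σGE E₁ (m + 1))).d (m + 1) (m + 1 + 1) ≫ H.hom (m + 1 + 1) (m + 1) :=
      eq_sub_of_add_eq' hH.symm
    rw [e, Preadditive.comp_sub, Iso.inv_hom_id, reassoc_of% hd, Preadditive.comp_sub, Category.comp_id,
      HomologicalComplex.d_comp_d_assoc, zero_comp, sub_zero, sub_self]
  let p := E₂.liftCycles q (m + 1) (by simp) hq
  have hp : E₂.iCycles m ≫ p = 𝟙 _ := by
    rw [← cancel_mono (E₂.iCycles m), Category.assoc, HomologicalComplex.liftCycles_i, Category.id_comp]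
    simp [q, Preadditive.comp_sub]
  obtain ⟨k, ⟨e⟩⟩ := (hfree.restrict T.ι) m
  refine ⟨T, T.ι ≫ W₁.ι, inferInstance, ⟨⟨⟨x, hx₁⟩, hxT⟩, rfl⟩, ?_⟩
  exact DCX42.isFinLocFree_of_iso (HomologicalComplex.cyclesMapIso ((resCompCx T.ι W₁.ι).app E) m)
    (DCX42.isFinLocFree_of_retract (E₂.iCycles m ≫ e.hom) (e.inv ≫ p)
      ((Category.assoc _ _ _).trans ((congrArg (E₂.iCycles m ≫ ·) (e.hom_inv_id_assoc p)).trans hp)))

/-- Truncating above. -/
theorem isStrictlyPerfect_truncLE {E : CochainComplex X.Modules ℤ} (hE : DCoh.IsStrictlyPerfect E) (n : ℤ)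
    (hc : FlatMod.IsFinLocFree (E.cycles n)) : DCoh.IsStrictlyPerfect (E.truncLE n) := by
  obtain ⟨⟨a, b, hab⟩, hf⟩ := hE
  refine ⟨⟨min a n, n, fun i hi => ?_⟩, fun i => ?_⟩
  · rcases hi with hi | hi
    · exact (hab i (Or.inl (by omega))).of_iso (CochainComplex.truncLEXIso E n i (by omega))
    · exact CochainComplex.isZero_of_isStrictlyLE (E.truncLE n) n i hi
  · rcases lt_trichotomy i n with h | h | h
    · exact DCX42.isFinLocFree_of_iso (CochainComplex.truncLEXIso E n i h).symm (hf i)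
    · subst h
      exact DCX42.isFinLocFree_of_iso (CochainComplex.truncLEXIsoCycles E i).symm hc
    · exact DCX42.isFinLocFree_of_isZero (CochainComplex.isZero_of_isStrictlyLE (E.truncLE n) n i h)

/-- The amplitude representative cut out of an approximation. -/
theorem hasAmpRep_of_pcMap {m n : ℤ} (hmn : m ≤ n) {E R : CochainComplex X.Modules ℤ}
    (hE : DCoh.IsStrictlyPerfect E) (hEn : ∀ i, n < i → IsZero (E.X i))
    (hRv : DCoh.VanishesOutside R m n) (hR : ∀ i, FlatMod.IsFlat (R.X i)) (γ : E ⟶ R)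
    (hγ : PCMap (m - 1) (DerivedCategory.Q.map γ)) : HasAmpRep m n (DerivedCategory.Q.obj R) := by
  obtain ⟨hiso, hepi⟩ := (pcMap_Q_iff γ (m - 1)).1 hγ
  have hflat : ModSite.IsFlat (O := X.sheaf) (cokernel (E.d (m - 1) m)) :=
    (flatX X).isFlat_coker_of_pc γ m n (fun i => isFinLocFree_flat (hE.2 i))
      (fun i => DCK91.isFlat_of_flatMod _ (hR i)) hEn (fun i hi => hRv i (Or.inr hi))
      (fun i hi => hRv i (Or.inl hi)) hiso hepi
  have hfp : CohB1.IsFP (cokernel (E.d (m - 1) m)) :=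
    LimTop61.isFP_cokernel _ (Props58.LocFree.isFP_of_isFinLocFree (hE.2 _)) (Props58.LocFree.isFP_of_isFinLocFree (hE.2 _))
  have hco : FlatMod.IsFinLocFree (cokernel (E.d (m - 1) m)) :=
    Props58.LocFree.isFinLocFree_of_isFP hfp fun x =>
      @Props58.LocFree.free_stalk_of_flat _ _ hfp x (DCK91.flatMod_of_isFlat _ hflat x)
  haveI : R.IsStrictlyGE m := (CochainComplex.isStrictlyGE_iff _ _).2 fun i hi => hRv i (Or.inl hi)
  haveI : QuasiIso (CochainComplex.truncGEMap γ m) :=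
    (CochainComplex.quasiIso_truncGEMap_iff γ m).2 fun i hi => by
      rw [quasiIsoAt_iff_isIso_homologyMap]
      exact hiso i (by omega)
  haveI : E.IsStrictlyLE n := (CochainComplex.isStrictlyLE_iff _ _).2 hEn
  refine ⟨E.truncGE m, fun i hi => ?_, fun i => ?_,
    ⟨asIso (DerivedCategory.Q.map (R.πTruncGE m)) ≪≫ (asIso (DerivedCategory.Q.map (CochainComplex.truncGEMap γ m))).symm⟩⟩
  · rcases hi with hi | hi
    · exact CochainComplex.isZero_of_isStrictlyGE (E.truncGE m) m i hi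
    · exact CochainComplex.isZero_of_isStrictlyLE (E.truncGE m) n i hi
  · rcases lt_trichotomy i m with hlt | heq | hgt
    · exact DCX42.isFinLocFree_of_isZero (CochainComplex.isZero_of_isStrictlyGE (E.truncGE m) m i hlt)
    · subst heq
      exact DCX42.isFinLocFree_of_iso (CochainComplex.truncGEXIsoOpcycles E i ≪≫ (cokerOp E (i - 1) i (by omega)).symm).symm hco
    · exact DCX42.isFinLocFree_of_iso (CochainComplex.truncGEXIso E m i hgt).symm (hE.2 i)

/-- Pseudo-coherence and flat amplitude give perfect amplitude. -/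
theorem perfAmp_of_pc_flatAmp {m n : ℤ} (hmn : m ≤ n) {K : DCoh.D X} (hpc : DCoh.IsPseudoCoherentD (m - 1) K)
    (hfl : DCoh.HasFlatAmplitudeIn m n K) : KSix.HasPerfectAmplitudeIn m n K := by
  rw [isPerfAmp_iff]
  rw [isPC_iff] at hpc
  obtain ⟨R, hRv, hR, ⟨eR⟩⟩ := hfl
  intro x
  obtain ⟨V, hx, E, α, hE, hα⟩ := hpc x
  let α' : DerivedCategory.Q.obj E ⟶ DerivedCategory.Q.obj ((resCx V.ι).obj R) :=
    α ≫ (resD V.ι).map eR.inv ≫ (resQ V.ι R).hom
  obtain ⟨W, β, hxW, -, hpcβ⟩ := exists_rep_map hE α' ⟨x, hx⟩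
  obtain ⟨hiso, hepi⟩ := (pcMap_Q_iff β (m - 1)).1
    (hpcβ _ (hα.comp ((PCMap.of_isIso _ _).comp (PCMap.of_isIso _ _))))
  let E₁ := (resCx W.ι).obj E
  let R₁ := (resCx W.ι).obj ((resCx V.ι).obj R)
  have hex : ∀ i, n < i → E₁.ExactAt i := fun i hi => by
    have := hiso i (by omega)
    refine (E₁.exactAt_iff_isZero_homology i).2 (IsZero.of_iso ?_ (asIso (HomologicalComplex.homologyMap β i)))
    exact (R₁.exactAt_iff_isZero_homology i).1 (ShortComplex.exact_of_isZero_X₂ _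
      ((Scheme.Modules.restrictFunctor W.ι).map_isZero ((Scheme.Modules.restrictFunctor V.ι).map_isZero (hRv i (Or.inr hi)))))
  obtain ⟨T, j, _, hxT, hcyc⟩ := exists_cycles_free (isStrictlyPerfect_restrict hE W.ι) n hex ⟨⟨x, hx⟩, hxW⟩
  let E₂ := (resCx j).obj E₁
  let R₂ := (resCx j).obj R₁
  haveI : E₂.IsLE n := (CochainComplex.isLE_iff _ _).2 fun i hi => exactAt_resCx j (hex i hi)
  have hβ₂ : PCMap (m - 1) (DerivedCategory.Q.map ((resCx j).map β)) := by
    have e : DerivedCategory.Q.map ((resCx j).map β) =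
        (resQ j E₁).inv ≫ (resD j).map (DerivedCategory.Q.map β) ≫ (resQ j R₁).hom := by
      rw [Iso.eq_inv_comp]
      exact ((Scheme.Modules.restrictFunctor j).mapDerivedCategoryFactors.hom.naturality β).symm
    rw [e]
    exact (PCMap.of_isIso _ _).comp ((((pcMap_Q_iff β (m - 1)).2 ⟨hiso, hepi⟩).map _).comp (PCMap.of_isIso _ _))
  have hγ : PCMap (m - 1) (DerivedCategory.Q.map (E₂.ιTruncLE n ≫ (resCx j).map β)) := by
    rw [Functor.map_comp]
    exact (PCMap.of_isIso _ _).comp hβ₂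
  have hamp : HasAmpRep m n (DerivedCategory.Q.obj R₂) :=
    hasAmpRep_of_pcMap hmn
      (isStrictlyPerfect_truncLE (isStrictlyPerfect_restrict (isStrictlyPerfect_restrict hE W.ι) j) n hcyc)
      (fun i hi => CochainComplex.isZero_of_isStrictlyLE (E₂.truncLE n) n i hi)
      (fun i hi => (Scheme.Modules.restrictFunctor j).map_isZero ((Scheme.Modules.restrictFunctor W.ι).map_isZero
        ((Scheme.Modules.restrictFunctor V.ι).map_isZero (hRv i hi))))
      (fun i => isFlat_restrict j (isFlat_restrict W.ι (isFlat_restrict V.ι (hR i)))) _ hγ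
  have hK : HasAmpRep m n ((resD j).obj ((resD W.ι).obj ((resD V.ι).obj K))) :=
    hamp.of_iso ((resD j).mapIso ((resD W.ι).mapIso ((resD V.ι).mapIso eR.symm ≪≫ resQ V.ι R) ≪≫
      resQ W.ι _) ≪≫ resQ j _).symm
  refine exists_nhd_of_immersion (P := fun {_} L => HasAmpRep m n L) (fun h e => h.of_iso e)
    (fun j _ h => h.restrict j) (j ≫ W.ι ≫ V.ι) (hK.of_iso ?_) x ?_
  · exact (resD j).mapIso ((resDComp W.ι V.ι).app K) ≪≫ (resDComp j (W.ι ≫ V.ι)).app K
  · obtain ⟨t, ht⟩ := hxT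
    exact ⟨t, by simp only [Scheme.Hom.comp_base, TopCat.comp_app]; rw [ht]; rfl⟩

theorem perfAmp_iff {m n : ℤ} (hmn : m ≤ n) (K : DCoh.D X) :
    KSix.HasPerfectAmplitudeIn m n K ↔ DCoh.IsPseudoCoherentD (m - 1) K ∧ DCoh.HasFlatAmplitudeIn m n K :=
  ⟨fun h => ⟨isPC_of_perfAmp h _, flatAmp_of_perfAmp hmn h⟩, fun h => perfAmp_of_pc_flatAmp hmn h.1 h.2⟩

theorem isPerfect_of_perfAmp {m n : ℤ} {K : DCoh.D X} (h : KSix.HasPerfectAmplitudeIn m n K) : DCoh.IsPerfect K := by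
  rw [DCX42.isPerfect_iff]
  rw [isPerfAmp_iff] at h
  intro x
  obtain ⟨V, hx, E, hv, hf, he⟩ := h x
  exact ⟨V, hx, E, ⟨⟨m, n, hv⟩, hf⟩, he⟩

end Groth.Agent.PerfAmp41
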