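import Groth.Agent.Mod48.KFlatResolution
import Groth.Agent.Mod48.LocalHomotopyLift
import Groth.Agent.DCK91.TorFlat

/-!
Flatness of opcycles of complexes which are exact in high degrees, and of cokernels read off from a mapping cone.
-/

set_option autoImplicit false
set_option linter.style.haveILetI false

noncomputable section

universe u

open CategoryTheory Limits HomologicalComplex

namespace Groth.Agent.PerfAmp41

open Groth.Agent.Mod48

section Abstract

variable {A : Type*} [Category* A] [Abelian A]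

lemma mono_fromOpcycles_of_exactAt (K : CochainComplex A ℤ) (j : ℤ) (h : K.ExactAt j) :
    Mono (K.fromOpcycles j (j + 1)) := by
  refine Preadditive.mono_of_cancel_zero _ fun {W} x hx => ?_
  let S := ShortComplex.mk (K.homologyι j) (K.fromOpcycles j (j + 1)) (K.homologyι_comp_fromOpcycles j (j + 1))
  have hS : IsLimit (KernelFork.ofι S.f S.zero) := K.homologyIsKernel j (j + 1) (by simp)
  obtain ⟨y, hy⟩ := KernelFork.IsLimit.lift' hS x hx
  change y ≫ K.homologyι j = x at hy
  rw [← hy, ((K.exactAt_iff_isZero_homology j).1 h).eq_of_tgt y 0, zero_comp]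

lemma fromOpcycles_pOpcycles (K : CochainComplex A ℤ) (j : ℤ) :
    K.fromOpcycles j (j + 1) ≫ K.pOpcycles (j + 1) = 0 := by
  rw [← cancel_epi (K.pOpcycles j), p_fromOpcycles_assoc, comp_zero, d_pOpcycles]

/-- In a degree where the complex is exact, opcycles give a short exact sequence. -/
lemma shortExact_opcycles (K : CochainComplex A ℤ) (j : ℤ) (h : K.ExactAt j) :
    (ShortComplex.mk (K.fromOpcycles j (j + 1)) (K.pOpcycles (j + 1)) (fromOpcycles_pOpcycles K j)).ShortExact := by
  haveI := mono_fromOpcycles_of_exactAt K j h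
  let S₁ := ShortComplex.mk (K.d j (j + 1)) (K.pOpcycles (j + 1)) (K.d_pOpcycles j (j + 1))
  let φ : S₁ ⟶ ShortComplex.mk (K.fromOpcycles j (j + 1)) (K.pOpcycles (j + 1)) (fromOpcycles_pOpcycles K j) :=
    { τ₁ := K.pOpcycles j, τ₂ := 𝟙 _, τ₃ := 𝟙 _
      comm₁₂ := by simp [S₁]
      comm₂₃ := by simp [S₁] }
  haveI : Epi φ.τ₁ := inferInstanceAs (Epi (K.pOpcycles j))
  haveI : IsIso φ.τ₂ := inferInstanceAs (IsIso (𝟙 _))
  haveI : Mono φ.τ₃ := inferInstanceAs (Mono (𝟙 _))
  have h₁ : S₁.Exact := ShortComplex.exact_of_g_is_cokernel _ (K.opcyclesIsCokernel j (j + 1) (by simp))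
  exact { exact := (ShortComplex.exact_iff_of_epi_of_isIso_of_mono φ).1 h₁
          mono_f := inferInstanceAs (Mono (K.fromOpcycles j (j + 1)))
          epi_g := inferInstanceAs (Epi (K.pOpcycles (j + 1))) }

lemma isIso_opcyclesMap' {K L : CochainComplex A ℤ} (φ : K ⟶ L) (i j : ℤ) (hij : i + 1 = j) [IsIso (φ.f j)]
    [Epi (φ.f i)] : IsIso (opcyclesMap φ j) := by
  obtain rfl : i = j - 1 := by omega
  have e : (ComplexShape.up ℤ).prev j = j - 1 := by simp
  have h₂ : IsIso ((shortComplexFunctor A (ComplexShape.up ℤ) j).map φ).τ₂ := ‹IsIso (φ.f j)›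
  have h₁ : Epi ((shortComplexFunctor A (ComplexShape.up ℤ) j).map φ).τ₁ := by
    change Epi (φ.f ((ComplexShape.up ℤ).prev j))
    rw [e]
    infer_instance
  exact ShortComplex.isIso_opcyclesMap_of_isIso_of_epi' ((shortComplexFunctor A (ComplexShape.up ℤ) j).map φ) h₂ h₁

lemma isIso_pOpcycles_of_isZero (K : CochainComplex A ℤ) (i j : ℤ) (hij : i + 1 = j) (h : IsZero (K.X i)) :
    IsIso (K.pOpcycles j) := by
  have e : (ComplexShape.up ℤ).prev j = i := (ComplexShape.up ℤ).prev_eq' hij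
  have h' : IsZero (K.X ((ComplexShape.up ℤ).prev j)) := by rwa [e]
  exact @ShortComplex.isIso_pOpcycles _ _ _ (K.sc j) _ (h'.eq_of_src _ _)

lemma exactAt_cone_of_quasiIso {K L : CochainComplex A ℤ} (φ : K ⟶ L) [QuasiIso φ] (i : ℤ) :
    (CochainComplex.mappingCone φ).ExactAt i :=
  Mod48.exactAt_mappingCone φ i inferInstance inferInstance

lemma isGE_of_quasiIso {K L : CochainComplex A ℤ} (β : K ⟶ L) [QuasiIso β] (m : ℤ)
    (hK : ∀ i, i < m → IsZero (K.X i)) : CochainComplex.IsGE L m :=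
  (CochainComplex.isGE_iff _ _).2 fun i hi => (exactAt_iff_isZero_homology _ _).2
    (((exactAt_iff_isZero_homology K i).1 (ShortComplex.exact_of_isZero_X₂ _ (hK i hi))).of_iso
      (isoOfQuasiIsoAt β i).symm)

/-- Cokernels of differentials as opcycles. -/
def cokerOp (K : CochainComplex A ℤ) (i j : ℤ) (hij : i + 1 = j) : cokernel (K.d i j) ≅ K.opcycles j :=
  (cokernelIsCokernel _).coconePointUniqueUpToIso (K.opcyclesIsCokernel i j ((ComplexShape.up ℤ).prev_eq' hij))

/-- The cone in one degree. -/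
def coneDeg {K L : CochainComplex A ℤ} (φ : K ⟶ L) (i : ℤ) : ShortComplex A :=
  ShortComplex.mk ((CochainComplex.mappingCone.inr φ).f i) ((CochainComplex.mappingCone.fst φ).1.v i (i + 1) rfl)
    (CochainComplex.mappingCone.inr_f_fst_v φ i (i + 1) rfl)

/-- The cone splits in each degree. -/
def coneDegSplitting {K L : CochainComplex A ℤ} (φ : K ⟶ L) (i : ℤ) : (coneDeg φ i).Splitting where
  r := (CochainComplex.mappingCone.snd φ).v i i (add_zero i)
  s := (CochainComplex.mappingCone.inl φ).v (i + 1) i (by omega)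
  f_r := CochainComplex.mappingCone.inr_f_snd_v φ i
  s_g := CochainComplex.mappingCone.inl_v_fst_v φ (i + 1) i rfl
  id := (add_comm _ _).trans (CochainComplex.mappingCone.id_X φ i (i + 1) rfl)

lemma shortExact_coneDeg {K L : CochainComplex A ℤ} (φ : K ⟶ L) (i : ℤ) : (coneDeg φ i).ShortExact :=
  (coneDegSplitting φ i).shortExact

/-- A degree in which the target of the cone vanishes. -/
def coneXIso {K L : CochainComplex A ℤ} (φ : K ⟶ L) (i j : ℤ) (hij : i + 1 = j) (h : IsZero (L.X i)) :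
    (CochainComplex.mappingCone φ).X i ≅ K.X j where
  hom := (CochainComplex.mappingCone.fst φ).1.v i j hij
  inv := (CochainComplex.mappingCone.inl φ).v j i (by omega)
  hom_inv_id := by
    have := CochainComplex.mappingCone.id_X φ i j hij
    rwa [h.eq_of_tgt ((CochainComplex.mappingCone.snd φ).v i i (add_zero i)) 0, zero_comp, add_zero] at this
  inv_hom_id := CochainComplex.mappingCone.inl_v_fst_v φ j i hij

lemma isZero_coneX {K L : CochainComplex A ℤ} (φ : K ⟶ L) (i : ℤ) (h1 : IsZero (K.X (i + 1)))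
    (h2 : IsZero (L.X i)) : IsZero ((CochainComplex.mappingCone φ).X i) :=
  h1.of_iso (coneXIso φ i (i + 1) rfl h2)

/-- Opcycles of the cone below the target. -/
def coneOpIso {K L : CochainComplex A ℤ} (φ : K ⟶ L) (i j k : ℤ) (hij : i + 1 = j) (hjk : j + 1 = k)
    (hi : IsZero (L.X i)) (hj : IsZero (L.X j)) :
    (CochainComplex.mappingCone φ).opcycles j ≅ cokernel (K.d j k) :=
  (cokerOp (CochainComplex.mappingCone φ) i j hij).symm ≪≫
    cokernel.mapIso _ _ ({ hom := -(coneXIso φ i j hij hi).hom, inv := -(coneXIso φ i j hij hi).inv } :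
        (CochainComplex.mappingCone φ).X i ≅ K.X j) (coneXIso φ j k hjk hj)
      (by
        dsimp only [coneXIso]
        rw [CochainComplex.mappingCone.d_fst_v φ i j k hij hjk, Preadditive.neg_comp])

/-- A class of objects closed under kernels of epimorphisms and extensions. -/
structure ExactClass (A : Type*) [Category* A] [Abelian A] where
  /-- The predicate. -/
  P : A → Prop
  of_iso : ∀ {M N : A}, (M ≅ N) → P M → P N
  of_isZero : ∀ {M : A}, IsZero M → P M
  X₁ : ∀ (S : ShortComplex A), S.ShortExact → P S.X₂ → P S.X₃ → P S.X₁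
  X₂ : ∀ (S : ShortComplex A), S.ShortExact → P S.X₁ → P S.X₃ → P S.X₂

variable (hF : ExactClass A)

include hF

/-- Opcycles of a bounded above complex, exact and flat in high degrees, are flat. -/
theorem ExactClass.isFlat_opcycles (P : CochainComplex A ℤ) (a b : ℤ) (hb : ∀ i, b < i → IsZero (P.X i))
    (hf : ∀ i, a < i → hF.P (P.X i)) (hex : ∀ i, a ≤ i → P.ExactAt i) (j : ℤ) (hj : a ≤ j) :
    hF.P (P.opcycles j) := by
  suffices H : ∀ (n : ℕ) (j : ℤ), a ≤ j → b < j + n → hF.P (P.opcycles j) from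
    H (b + 1 - j).toNat j hj (by omega)
  intro n
  induction n with
  | zero => exact fun j _ hj' => hF.of_isZero (IsZero.of_epi (P.pOpcycles j) (hb j (by simpa using hj')))
  | succ n ih =>
    intro j hj hj'
    exact hF.X₁ _ (shortExact_opcycles P j (hex j hj)) (hf (j + 1) (by omega))
      (ih (j + 1) (by omega) (by push_cast at hj'; omega))

lemma ExactClass.isFlat_coneX {K L : CochainComplex A ℤ} (φ : K ⟶ L) (i : ℤ) (h1 : hF.P (K.X (i + 1)))
    (h2 : hF.P (L.X i)) : hF.P ((CochainComplex.mappingCone φ).X i) :=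
  hF.X₂ (coneDeg φ i) (shortExact_coneDeg φ i) h2 h1

/-- A complex of flat modules in degrees `[m, n]` approximated from `(m - 1)`: the cokernel is flat. -/
theorem ExactClass.isFlat_coker_of_pc {E R : CochainComplex A ℤ} (φ : E ⟶ R) (m b : ℤ)
    (hE : ∀ i, hF.P (E.X i)) (hR : ∀ i, hF.P (R.X i))
    (hEb : ∀ i, b < i → IsZero (E.X i)) (hRb : ∀ i, b < i → IsZero (R.X i))
    (hRm : ∀ i, i < m → IsZero (R.X i))
    (hiso : ∀ i, m - 1 < i → IsIso (homologyMap φ i)) (hepi : Epi (homologyMap φ (m - 1))) :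
    hF.P (cokernel (E.d (m - 1) m)) := by
  have hex : ∀ i, m - 1 ≤ i → (CochainComplex.mappingCone φ).ExactAt i := fun i hi =>
    Mod48.exactAt_mappingCone φ i
      (by rcases eq_or_lt_of_le hi with rfl | h
          · exact hepi
          · have := hiso i h; infer_instance)
      (have := hiso (i + 1) (by omega); inferInstance)
  have h := hF.isFlat_opcycles (CochainComplex.mappingCone φ) (m - 1) b
    (fun i hi => isZero_coneX φ i (hEb _ (by omega)) (hRb i hi)) (fun i _ => hF.isFlat_coneX φ i (hE _) (hR i))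
    hex (m - 1) le_rfl
  exact hF.of_iso (coneOpIso φ (m - 1 - 1) (m - 1) m (by omega) (by omega) (hRm _ (by omega)) (hRm _ (by omega))) h

/-- A flat complex quasi-isomorphic to flat modules in degrees `≥ m`: the cokernel is flat. -/
theorem ExactClass.isFlat_coker_of_qis {E P : CochainComplex A ℤ} (β : E ⟶ P) [QuasiIso β] (m b : ℤ)
    (hE : ∀ i, hF.P (E.X i)) (hP : ∀ i, hF.P (P.X i))
    (hEb : ∀ i, b < i → IsZero (E.X i)) (hPb : ∀ i, b < i → IsZero (P.X i))
    (hEm : ∀ i, i < m → IsZero (E.X i)) :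
    hF.P (cokernel (P.d (m - 1) m)) := by
  haveI : CochainComplex.IsGE P m := isGE_of_quasiIso β m hEm
  haveI : CochainComplex.IsStrictlyLE P b := (CochainComplex.isStrictlyLE_iff _ _).2 hPb
  let T := CochainComplex.truncGE P m
  let φ : E ⟶ T := β ≫ CochainComplex.πTruncGE P m
  have hTlow : ∀ i, i < m → IsZero (T.X i) := fun i hi => CochainComplex.isZero_of_isStrictlyGE T m i hi
  have hTfl : ∀ i, m < i → hF.P (T.X i) := fun i hi =>
    hF.of_iso (CochainComplex.truncGEXIso P m i hi).symm (hP i)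
  haveI : QuasiIso φ := inferInstanceAs (QuasiIso (β ≫ CochainComplex.πTruncGE P m))
  have hex : ∀ i, (CochainComplex.mappingCone φ).ExactAt i := exactAt_cone_of_quasiIso φ
  have hcone : ∀ i, m < i → hF.P ((CochainComplex.mappingCone φ).X i) := fun i hi =>
    hF.isFlat_coneX φ i (hE _) (hTfl i hi)
  have hop := hF.isFlat_opcycles (CochainComplex.mappingCone φ) m b
    (fun i hi => isZero_coneX φ i (hEb _ (by omega)) (CochainComplex.isZero_of_isStrictlyLE T b i hi))
    hcone (fun i _ => hex i) m le_rfl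
  obtain ⟨q, hq⟩ : ∃ q : ℤ, q + 1 = m := ⟨m - 1, by omega⟩
  subst hq
  haveI : IsIso ((CochainComplex.mappingCone φ).pOpcycles q) :=
    isIso_pOpcycles_of_isZero (CochainComplex.mappingCone φ) (q - 1) q (by omega)
      (isZero_coneX φ (q - 1) (hEm _ (by omega)) (hTlow _ (by omega)))
  have h0 : hF.P ((CochainComplex.mappingCone φ).opcycles q) :=
    hF.of_iso ((coneXIso φ q (q + 1) rfl (hTlow q (by omega))).symm ≪≫
      asIso ((CochainComplex.mappingCone φ).pOpcycles q)) (hE (q + 1))
  have hmid : hF.P ((CochainComplex.mappingCone φ).X (q + 1)) :=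
    hF.X₂ _ (shortExact_opcycles (CochainComplex.mappingCone φ) q (hex q)) h0 hop
  have hT : hF.P (T.X (q + 1)) :=
    hF.X₁ (coneDeg φ (q + 1)) (shortExact_coneDeg φ (q + 1)) hmid (hE _)
  exact hF.of_iso (CochainComplex.truncGEXIsoOpcycles P (q + 1) ≪≫
    (cokerOp P (q + 1 - 1) (q + 1) (by omega)).symm) hT

/-- Cokernels in two bounded above flat complexes with isomorphic high cohomology. -/
theorem ExactClass.coker_iff_of_iso_homology {E P : CochainComplex A ℤ} (φ : E ⟶ P) (q b : ℤ)
    (hE : ∀ i, hF.P (E.X i)) (hP : ∀ i, hF.P (P.X i))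
    (hEb : ∀ i, b < i → IsZero (E.X i)) (hPb : ∀ i, b < i → IsZero (P.X i))
    (hiso : ∀ i, q < i → IsIso (homologyMap φ i)) :
    hF.P (cokernel (E.d q (q + 1))) ↔ hF.P (cokernel (P.d q (q + 1))) := by
  haveI : CochainComplex.IsStrictlyLE E b := (CochainComplex.isStrictlyLE_iff _ _).2 hEb
  haveI : CochainComplex.IsStrictlyLE P b := (CochainComplex.isStrictlyLE_iff _ _).2 hPb
  let TE := CochainComplex.truncGE E (q + 1)
  let TP := CochainComplex.truncGE P (q + 1)
  let ψ : TE ⟶ TP := CochainComplex.truncGEMap φ (q + 1)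
  haveI : QuasiIso ψ := (CochainComplex.quasiIso_truncGEMap_iff φ (q + 1)).2 fun i hi => by
    rw [quasiIsoAt_iff_isIso_homologyMap]
    exact hiso i (by omega)
  have hlowE : ∀ i, i < q + 1 → IsZero (TE.X i) := fun i hi => CochainComplex.isZero_of_isStrictlyGE TE (q + 1) i hi
  have hlowP : ∀ i, i < q + 1 → IsZero (TP.X i) := fun i hi => CochainComplex.isZero_of_isStrictlyGE TP (q + 1) i hi
  have hTE : ∀ i, q + 1 < i → hF.P (TE.X i) := fun i hi =>
    hF.of_iso (CochainComplex.truncGEXIso E (q + 1) i hi).symm (hE i)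
  have hTP : ∀ i, q + 1 < i → hF.P (TP.X i) := fun i hi =>
    hF.of_iso (CochainComplex.truncGEXIso P (q + 1) i hi).symm (hP i)
  let C := CochainComplex.mappingCone ψ
  have hex : ∀ i, C.ExactAt i := exactAt_cone_of_quasiIso ψ
  have hC : ∀ i, q + 1 < i → hF.P (C.X i) := fun i hi =>
    hF.isFlat_coneX ψ i (hTE _ (by omega)) (hTP i hi)
  have hop : hF.P (C.opcycles (q + 1)) := hF.isFlat_opcycles C (q + 1) b
    (fun i hi => isZero_coneX ψ i (CochainComplex.isZero_of_isStrictlyLE TE b _ (by omega))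
      (CochainComplex.isZero_of_isStrictlyLE TP b i hi)) hC (fun i _ => hex i) (q + 1) le_rfl
  haveI : IsIso (C.pOpcycles q) := isIso_pOpcycles_of_isZero C (q - 1) q (by omega)
    (isZero_coneX ψ (q - 1) (hlowE _ (by omega)) (hlowP _ (by omega)))
  let e₀ : C.opcycles q ≅ TE.X (q + 1) := (asIso (C.pOpcycles q)).symm ≪≫ coneXIso ψ q (q + 1) rfl (hlowP q (by omega))
  let eE : TE.X (q + 1) ≅ cokernel (E.d q (q + 1)) :=
    CochainComplex.truncGEXIsoOpcycles E (q + 1) ≪≫ (cokerOp E q (q + 1) rfl).symm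
  let eP : TP.X (q + 1) ≅ cokernel (P.d q (q + 1)) :=
    CochainComplex.truncGEXIsoOpcycles P (q + 1) ≪≫ (cokerOp P q (q + 1) rfl).symm
  constructor
  · intro h
    have hmid : hF.P (C.X (q + 1)) :=
      hF.X₂ _ (shortExact_opcycles C q (hex q)) (hF.of_iso (e₀ ≪≫ eE).symm h) hop
    exact hF.of_iso eP (hF.X₁ (coneDeg ψ (q + 1)) (shortExact_coneDeg ψ (q + 1)) hmid (hTE _ (by omega)))
  · intro h
    have hmid : hF.P (C.X (q + 1)) :=
      hF.isFlat_coneX ψ (q + 1) (hTE _ (by omega)) (hF.of_iso eP.symm h)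
    exact hF.of_iso (e₀ ≪≫ eE) (hF.X₁ _ (shortExact_opcycles C q (hex q)) hmid hop)

end Abstract

variable {C : Type u} [SmallCategory C] {J : GrothendieckTopology C} {O : Sheaf J CommRingCat.{u}}

variable (O) in
/-- Flat modules. -/
def flatClass : ExactClass (ModSite.Mod O) where
  P := ModSite.IsFlat
  of_iso e h := Mod48.isFlat_of_iso e h
  of_isZero h := Mod48.isFlat_of_isZero h
  X₁ S hS h2 h3 := Mod48.isFlat_X₁ S hS h2 h3
  X₂ S hS h1 h3 := Mod48.isFlat_X₂ S hS h1 h3

end Groth.Agent.PerfAmp41
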