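import Groth.Agent.PerfAmp41.Main

/-!
Perfect objects are the pseudo-coherent objects of locally finite tor dimension.
-/

set_option autoImplicit false
set_option linter.style.haveILetI false

noncomputable section

universe u

open CategoryTheory Limits AlgebraicGeometry
open Groth.Agent.DCX42
attribute [local instance] HasDerivedCategory.standard

namespace Groth.Agent.PerfAmp41

variable {X : Scheme.{u}}

theorem isPerfect_iff_pc_locTor (K : DCoh.D X) :
    DCoh.IsPerfect K ↔ (∀ m : ℤ, DCoh.IsPseudoCoherentD m K) ∧ DCoh.LocHasFiniteTorDim K := by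
  constructor
  · intro h
    refine ⟨fun m => ?_, fun x => ?_⟩
    · rw [DCX42.isPerfect_iff] at h
      rw [DCX42.isPC_iff]
      intro x
      obtain ⟨V, hx, E, hE, ⟨e⟩⟩ := h x
      exact ⟨V, hx, E, e.inv, hE, PCMap.of_isIso m _⟩
    · rw [DCX42.isPerfect_iff] at h
      obtain ⟨V, hx, E, hE, ⟨e⟩⟩ := h x
      obtain ⟨⟨a, b, hab⟩, hf⟩ := hE
      exact ⟨V, a, b, hx, fun F' ⟨i⟩ => ⟨E, hab, fun j => DCX42.isFlat_of_isFinLocFree (hf j),
        ⟨e.symm ≪≫ (resD V.ι).mapIso i.symm ≪≫ resQ V.ι F'⟩⟩⟩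
  · rintro ⟨hpc, hloc⟩
    rw [DCX42.isPerfect_iff]
    intro x
    obtain ⟨V, a, b, hx, hV⟩ := hloc x
    obtain ⟨E, hE, hEf, ⟨e⟩⟩ := hV (DerivedCategory.Q.objPreimage K) ⟨rep K⟩
    have hamp : DCoh.HasFlatAmplitudeIn a (max a b) ((resD V.ι).obj K) :=
      ⟨E, fun i hi => hE i (by omega), hEf, ⟨e ≪≫ (resQ V.ι _).symm ≪≫ (resD V.ι).mapIso (rep K)⟩⟩
    have hperf := isPerfect_of_perfAmp
      (perfAmp_of_pc_flatAmp (le_max_left a b) (DCX42.isPC_restrict (hpc (a - 1)) V) hamp)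
    rw [DCX42.isPerfect_iff] at hperf
    obtain ⟨W, hxW, hW⟩ := hperf ⟨x, hx⟩
    exact exists_open_of_pieces (P := fun {_} L => HasPerfRep L) (fun h e => h.of_iso e)
      (fun j _ h => h.restrict j) _ V W hx hxW hW

end Groth.Agent.PerfAmp41
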